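/-
Orthogonal frames are not maximal in `SU_6(2)`.
-/
import Cfsg.Agent.Lib.MaxSub.NotMaximalSmall
import Cfsg.Agent.Lib.MaxSub.Monomial.Basic

set_option autoImplicit false
set_option maxHeartbeats 800000
set_option linter.unusedSectionVars false

namespace CfsgLib.MaxSub.SUSix

open Matrix Module Cfsg Cfsg.Geo CfsgLib.Aschbacher
open CfsgLib.MaxSub.Monomial (monM monM_mulVec det_monM)

variable {F : Type*} [Field F] [Fintype F]

/-- The vectors of the root system modulo two, in frame coordinates. -/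
def Root (c : Fin 6 → F) : Prop :=
  (∃ i j, i ≠ j ∧ ∀ k, c k ≠ 0 ↔ (k = i ∨ k = j)) ∨ ((∀ k, c k ≠ 0) ∧ ∏ k, c k = 1)

theorem cube (hF : Fintype.card F = 4) {x : F} (hx : x ≠ 0) : x ^ 3 = 1 := by
  have := FiniteField.pow_card_sub_one_eq_one x hx
  rwa [hF] at this

/-- Three values. -/
theorem values (hF : Fintype.card F = 4) {w : F} (hw : w * w + w + 1 = 0) (h2 : (2 : F) = 0) {x : F}
    (hx : x ≠ 0) : x = 1 ∨ x = w ∨ x = w + 1 := by
  have h3 := cube hF hx
  have : (x - 1) * ((x - w) * (x - (w + 1))) = 0 := by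
    linear_combination h3 + (x - 1) * hw + (1 - x - x * (x - 1) * (w + 1)) * h2
  rcases mul_eq_zero.1 this with h | h
  · exact Or.inl (sub_eq_zero.1 h)
  rcases mul_eq_zero.1 h with h | h
  · exact Or.inr (Or.inl (sub_eq_zero.1 h))
  · exact Or.inr (Or.inr (sub_eq_zero.1 h))

theorem root_scale (hF : Fintype.card F = 4) {c : Fin 6 → F} {l : F} (hl : l ≠ 0) (h : Root c) :
    Root (l • c) := by
  rcases h with ⟨i, j, hij, hk⟩ | ⟨h0, hp⟩
  · exact Or.inl ⟨i, j, hij, fun k => by rw [Pi.smul_apply, smul_eq_mul, mul_ne_zero_iff]; simp [hl, hk]⟩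
  · refine Or.inr ⟨fun k => mul_ne_zero hl (h0 k), ?_⟩
    simp only [Pi.smul_apply, smul_eq_mul, Finset.prod_mul_distrib, hp, mul_one, Finset.prod_const,
      Finset.card_univ, Fintype.card_fin]
    rw [show (6 : ℕ) = 3 * 2 from rfl, pow_mul, cube hF hl, one_pow]

theorem root_mono {c d : Fin 6 → F} (hd : ∀ k, d k ≠ 0) (hp : ∏ k, d k = 1) (σ : Equiv.Perm (Fin 6)) :
    Root c ↔ Root (monM σ d *ᵥ c) := by
  have key : ∀ k, (monM σ d *ᵥ c) (σ k) = d k * c k := fun k => by
    rw [monM_mulVec, σ.symm_apply_apply]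
  constructor
  · rintro (⟨i, j, hij, hk⟩ | ⟨h0, hc⟩)
    · refine Or.inl ⟨σ i, σ j, σ.injective.ne hij, fun k => ?_⟩
      obtain ⟨l, rfl⟩ := σ.surjective k
      rw [key, mul_ne_zero_iff, σ.injective.eq_iff, σ.injective.eq_iff]
      simp [hd, hk]
    · refine Or.inr ⟨fun k => ?_, ?_⟩
      · obtain ⟨l, rfl⟩ := σ.surjective k
        rw [key]; exact mul_ne_zero (hd l) (h0 l)
      · rw [← Equiv.prod_comp σ]
        simp only [key, Finset.prod_mul_distrib, hp, hc, mul_one]
  · rintro (⟨i, j, hij, hk⟩ | ⟨h0, hc⟩)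
    · refine Or.inl ⟨σ.symm i, σ.symm j, σ.symm.injective.ne hij, fun k => ?_⟩
      have h := hk (σ k)
      rw [key, mul_ne_zero_iff, ← Equiv.eq_symm_apply, ← Equiv.eq_symm_apply] at h
      simpa [hd] using h
    · refine Or.inr ⟨fun k => ?_, ?_⟩
      · exact right_ne_zero_of_mul (key k ▸ h0 (σ k))
      · rw [← Equiv.prod_comp σ] at hc
        simpa only [key, Finset.prod_mul_distrib, hp, one_mul] using hc

/-- The reflection of the root `(1, ..., 1)` preserves the roots. -/
theorem root_step (hF : Fintype.card F = 4) (c : Fin 6 → F) (h : Root c) :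
    Root fun k => c k + ∑ l, c l := by
  classical
  have h2 : (2 : F) = 0 := two_eq_zero_iff.2 (by rw [hF]; decide)
  have htwo : ∀ x : F, x + x = 0 := fun x => by linear_combination x * h2
  rcases h with ⟨i, j, hij, hk⟩ | ⟨h0, hp⟩
  · have hz : ∀ k, k ≠ i → k ≠ j → c k = 0 := fun k h1 h3 => by
      by_contra hne
      exact (not_or.2 ⟨h1, h3⟩) ((hk k).1 hne)
    have hs : ∑ l, c l = c i + c j := by
      rw [← Finset.sum_pair hij (f := c)]
      refine (Finset.sum_subset (Finset.subset_univ _) fun k _ hkm => ?_).symm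
      simp only [Finset.mem_insert, Finset.mem_singleton, not_or] at hkm
      exact hz k hkm.1 hkm.2
    have ha := (hk i).2 (Or.inl rfl)
    have hb := (hk j).2 (Or.inr rfl)
    by_cases hab : c i = c j
    · refine Or.inl ⟨i, j, hij, fun k => ?_⟩
      simp only [hs, hab, htwo, add_zero]
      exact hk k
    have hq : c i * c i + c i * c j + c j * c j = 0 := by
      refine (mul_eq_zero.1 (show (c i - c j) * (c i * c i + c i * c j + c j * c j) = 0 from ?_)).resolve_left
        (sub_ne_zero.2 hab)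
      linear_combination cube hF ha - cube hF hb
    have hs0 : c i + c j ≠ 0 := fun e => hab (by linear_combination e - c j * h2)
    have hval : ∀ k, c k + (c i + c j) = if k = i then c j else if k = j then c i else c i + c j := fun k => by
      split_ifs with h1 h3
      · subst h1; linear_combination c k * h2
      · subst h3; linear_combination c k * h2
      · rw [hz k h1 h3, zero_add]
    refine Or.inr ⟨fun k => ?_, ?_⟩
    · simp only [hs, hval]
      split_ifs
      exacts [hb, ha, hs0]
    · simp only [hs, hval]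
      rw [← Finset.mul_prod_erase _ _ (Finset.mem_univ i), if_pos rfl,
        ← Finset.mul_prod_erase _ _ (Finset.mem_erase.2 ⟨hij.symm, Finset.mem_univ j⟩), if_neg hij.symm,
        if_pos rfl, Finset.prod_congr rfl (g := fun _ => c i + c j) (fun k hk' => by
          simp only [Finset.mem_erase] at hk'
          rw [if_neg hk'.2.1, if_neg hk'.1]), Finset.prod_const]
      rw [show ((Finset.univ.erase i).erase j).card = 4 by
        rw [Finset.card_erase_of_mem (Finset.mem_erase.2 ⟨hij.symm, Finset.mem_univ j⟩),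
          Finset.card_erase_of_mem (Finset.mem_univ i), Finset.card_univ, Fintype.card_fin]]
      have h4 : (c i + c j) ^ 4 = c i + c j := by rw [pow_succ, cube hF hs0, one_mul]
      rw [h4]
      have h5 : c i * c j = (c i + c j) * (c i + c j) := by linear_combination -hq
      calc c j * (c i * (c i + c j)) = (c i * c j) * (c i + c j) := by ring
        _ = 1 := by rw [h5, ← pow_three', cube hF hs0]
  · obtain ⟨s, hs⟩ : ∃ s, s = ∑ l, c l := ⟨_, rfl⟩
    simp only [← hs]
    by_cases hs0 : s = 0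
    · simp only [hs0, add_zero]
      exact Or.inr ⟨h0, hp⟩
    obtain ⟨w, hw0, hw1⟩ : ∃ w : F, w ≠ 0 ∧ w ≠ 1 := by
      by_contra hc
      push Not at hc
      have : Finset.univ ⊆ ({0, 1} : Finset F) := fun x _ => by
        by_cases hx : x = 0 <;> simp [hx, hc x]
      have := (Finset.card_le_card this).trans Finset.card_le_two
      rw [Finset.card_univ] at this
      omega
    have hw : w * w + w + 1 = 0 := by
      refine (mul_eq_zero.1 (show (w - 1) * (w * w + w + 1) = 0 from ?_)).resolve_left (sub_ne_zero.2 hw1)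
      linear_combination cube hF hw0
    have hw3 := cube hF hw0
    have hww : w + 1 = w * w := by linear_combination hw - (w * w) * h2
    have hw1' : w + 1 ≠ 0 := fun e => hw1 (by linear_combination e - h2)
    -- normalised coordinates
    set e : Fin 6 → F := fun k => s⁻¹ * c k with he
    have hce : ∀ k, c k = s * e k := fun k => by rw [he]; field_simp
    have he0 : ∀ k, e k ≠ 0 := fun k => mul_ne_zero (inv_ne_zero hs0) (h0 k)
    set A := Finset.univ.filter (fun k => e k = 1) with hA
    set B := Finset.univ.filter (fun k => e k = w) with hB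
    set C := Finset.univ.filter (fun k => e k = w + 1) with hC
    have hdAB : Disjoint A B := Finset.disjoint_filter.2 fun k _ h1 h3 => hw1 (h3.symm.trans h1)
    have hdC : Disjoint (A ∪ B) C := by
      rw [Finset.disjoint_union_left, hA, hB, hC]
      exact ⟨Finset.disjoint_filter.2 fun k _ h1 h3 => hw0 (by linear_combination h3.symm.trans h1),
        Finset.disjoint_filter.2 fun k _ h1 h3 => one_ne_zero (α := F) (by linear_combination h3.symm.trans h1)⟩
    have hun : A ∪ B ∪ C = Finset.univ := Finset.eq_univ_iff_forall.2 fun k => by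
      rcases values hF hw h2 (he0 k) with h | h | h <;> simp [hA, hB, hC, h]
    have hcard : A.card + B.card + C.card = 6 := by
      rw [← Finset.card_union_of_disjoint hdAB, ← Finset.card_union_of_disjoint hdC, hun,
        Finset.card_univ, Fintype.card_fin]
    have split : ∀ (φ : Fin 6 → F) (a b d : F), (∀ k ∈ A, φ k = a) → (∀ k ∈ B, φ k = b) →
        (∀ k ∈ C, φ k = d) → ∑ k, φ k = A.card • a + B.card • b + C.card • d ∧
          ∏ k, φ k = a ^ A.card * b ^ B.card * d ^ C.card := by
      intro φ a b d ha hb hd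
      rw [← hun, Finset.sum_union hdC, Finset.sum_union hdAB, Finset.prod_union hdC,
        Finset.prod_union hdAB, Finset.sum_congr rfl ha, Finset.sum_congr rfl hb,
        Finset.sum_congr rfl hd, Finset.prod_congr rfl ha, Finset.prod_congr rfl hb,
        Finset.prod_congr rfl hd]
      simp only [Finset.sum_const, Finset.prod_const, and_self]
    have hAm : ∀ k ∈ A, e k = 1 := fun k hk => (Finset.mem_filter.1 hk).2
    have hBm : ∀ k ∈ B, e k = w := fun k hk => (Finset.mem_filter.1 hk).2
    have hCm : ∀ k ∈ C, e k = w + 1 := fun k hk => (Finset.mem_filter.1 hk).2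
    obtain ⟨hsum, hprod⟩ := split e 1 w (w + 1) hAm hBm hCm
    have hes : ∑ k, e k = 1 := by
      rw [he, ← Finset.mul_sum, ← hs, inv_mul_cancel₀ hs0]
    have hep : ∏ k, e k = 1 := by
      rw [he, Finset.prod_mul_distrib, hp, mul_one, Finset.prod_const, Finset.card_univ,
        Fintype.card_fin, show (6 : ℕ) = 3 * 2 from rfl, pow_mul, cube hF (inv_ne_zero hs0), one_pow]
    rw [hes] at hsum
    rw [hep, one_pow, one_mul, hww, ← sq, ← pow_mul, ← pow_add] at hprod
    -- the counts
    have hord : orderOf w = 3 := by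
      haveI : Fact (Nat.Prime 3) := ⟨Nat.prime_three⟩
      exact orderOf_eq_prime hw3 hw1
    have hdiv : 3 ∣ B.card + 2 * C.card := hord ▸ orderOf_dvd_of_pow_eq_one hprod.symm
    have hcast : ∀ m : ℕ, (m : F) = ((m % 2 : ℕ) : F) := fun m => by
      conv_lhs => rw [← Nat.div_add_mod m 2]
      push_cast
      rw [h2, zero_mul, zero_add]
    have hpar : (B.card + C.card) % 2 = 0 ∧ (A.card + C.card) % 2 = 1 := by
      have h1 : ((A.card + C.card : ℕ) : F) + ((B.card + C.card : ℕ) : F) * w = 1 := by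
        rw [hsum]; push_cast; simp only [nsmul_eq_mul]; ring
      rw [hcast (A.card + C.card), hcast (B.card + C.card)] at h1
      rcases Nat.mod_two_eq_zero_or_one (B.card + C.card) with hb | hb <;>
        rcases Nat.mod_two_eq_zero_or_one (A.card + C.card) with ha | ha <;>
        rw [ha, hb] at h1 <;> simp at h1
      · exact ⟨hb, ha⟩
      · exact absurd h1 hw1
      · exact absurd h1 hw0
    have hcases : A.card = 0 ∧ B.card = 3 ∧ C.card = 3 ∨ A.card = 4 ∧ B.card = 1 ∧ C.card = 1 := by
      omega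
    have hnew : ∀ k, c k + s = s * (e k + 1) := fun k => by rw [hce]; ring
    rcases hcases with ⟨a0, b3, c3⟩ | ⟨a4, b1, c1⟩
    · obtain ⟨-, hprod'⟩ := split (fun k => c k + s) (s * (1 + 1)) (s * (w + 1)) (s * (w + 1 + 1))
        (fun k hk => by rw [hnew, hAm k hk]) (fun k hk => by rw [hnew, hBm k hk])
        (fun k hk => by rw [hnew, hCm k hk])
      refine Or.inr ⟨fun k => ?_, ?_⟩
      · show c k + s ≠ 0
        rw [hnew]
        refine mul_ne_zero hs0 fun hz => ?_
        have hkA : k ∈ A := Finset.mem_filter.2 ⟨Finset.mem_univ k, by linear_combination hz - h2⟩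
        rw [Finset.card_eq_zero.1 a0] at hkA
        simp at hkA
      · rw [hprod', a0, b3, c3, pow_zero, one_mul, cube hF (mul_ne_zero hs0 hw1'),
          cube hF (mul_ne_zero hs0 ?_), one_mul]
        rw [show w + 1 + 1 = w by linear_combination h2]
        exact hw0
    · obtain ⟨i, hi⟩ := Finset.card_eq_one.1 b1
      obtain ⟨j, hj⟩ := Finset.card_eq_one.1 c1
      have hiB : e i = w := hBm i (hi ▸ Finset.mem_singleton_self i)
      have hjC : e j = w + 1 := hCm j (hj ▸ Finset.mem_singleton_self j)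
      refine Or.inl ⟨i, j, fun h => one_ne_zero (α := F) (by rw [h, hjC] at hiB; linear_combination hiB),
        fun k => ?_⟩
      show c k + s ≠ 0 ↔ _
      rw [hnew, mul_ne_zero_iff, and_iff_right hs0]
      constructor
      · intro hk1
        rcases values hF hw h2 (he0 k) with h | h | h
        · exact absurd (by rw [h]; exact htwo 1) hk1
        · left
          have : k ∈ B := Finset.mem_filter.2 ⟨Finset.mem_univ k, h⟩
          rw [hi] at this
          exact Finset.mem_singleton.1 this
        · right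
          have : k ∈ C := Finset.mem_filter.2 ⟨Finset.mem_univ k, h⟩
          rw [hj] at this
          exact Finset.mem_singleton.1 this
      · rintro (rfl | rfl)
        · rw [hiB]; exact hw1'
        · rw [hjC, show w + 1 + 1 = w by linear_combination h2]; exact hw0

local notation "h6" => Cfsg.hermForm 6 F 2
local notation "M6" => Matrix (Fin 6) (Fin 6) F
local notation "G6" => Cfsg.GU 6 F 2 ⊓ specialLinear (Fin 6) F

/-- Frames are not maximal in `SU_6(2)`. -/
theorem frame_not_maximal (hF : Fintype.card F = 4) {D : Fin 6 → Submodule F (Fin 6 → F)}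
    (hD : IsNondegenerateMDecomposition h6 1 D) :
    ∃ K : Subgroup (GL (Fin 6) F), decompositionStabilizer D ⊓ G6 < K ∧ K < G6 := by
  classical
  have hF' : Fintype.card F = 2 ^ 2 := hF
  obtain ⟨σ, hσ, hf⟩ := exists_unitary_hermForm (n := 6) hF'
  have hr := isRefl_of_unitary hf
  have h2 : (2 : F) = 0 := two_eq_zero_iff.2 (by rw [hF]; decide)
  have hrep : ∀ x, ∃ w : Fin 6 → F, w ∈ D x ∧ w ≠ 0 ∧ h6 w w = 1 ∧ D x = Submodule.span F {w} := by
    intro x
    obtain ⟨w, hw, hw0⟩ := Submodule.exists_mem_ne_zero_of_ne_bot (p := D x) (fun hb0 => by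
      have := hD.decomp.finrank_eq x
      rw [hb0, finrank_bot] at this
      omega)
    have hspan : D x = Submodule.span F {w} := (Submodule.eq_of_le_of_finrank_eq
      ((Submodule.span_singleton_le_iff_mem _ _).2 hw)
      (by rw [finrank_span_singleton hw0, hD.decomp.finrank_eq])).symm
    refine ⟨w, hw, hw0, norm_eq_one_of_card_four hF' w fun h0 => ?_, hspan⟩
    obtain ⟨-, z, hz, hwz⟩ := hD.nondegenerate x w hw hw0
    rw [hspan] at hz
    obtain ⟨c, rfl⟩ := Submodule.mem_span_singleton.1 hz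
    rw [hr.sesq.smul_right, h0, mul_zero] at hwz
    exact hwz rfl
  choose w hwD hw0 hw1 hwspan using hrep
  -- the change of coordinates
  let Wm : M6 := Matrix.of fun i j => w j i
  have hWsum : ∀ c, Wm *ᵥ c = ∑ j, c j • w j := fun c => by
    funext i
    simp only [Wm, Matrix.mulVec, dotProduct, Matrix.of_apply, Finset.sum_apply, Pi.smul_apply, smul_eq_mul]
    exact Finset.sum_congr rfl fun j _ => mul_comm _ _
  have hval : ∀ c k, h6 (Wm *ᵥ c) (w k) = c k := fun c k => by
    rw [hWsum]
    let L : (Fin 6 → F) →+ F := AddMonoidHom.mk' (fun y => h6 y (w k)) (fun a b => hr.sesq.add_left a b _)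
    show L _ = _
    rw [map_sum, Finset.sum_eq_single k]
    · show h6 (c k • w k) (w k) = _
      rw [hr.sesq.smul_left, hw1, mul_one]
    · intro j _ hj
      show h6 (c j • w j) (w k) = _
      rw [hr.sesq.smul_left, hD.orthogonal j k hj _ (hwD j) _ (hwD k), mul_zero]
    · exact fun h => absurd (Finset.mem_univ k) h
  have hWinj : Function.Injective fun c => Wm *ᵥ c := fun c d e => funext fun k => by
    rw [← hval c, ← hval d]; exact congrArg (fun z => h6 z (w k)) e
  have hWdet : Wm.det ≠ 0 := fun h0 => by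
    obtain ⟨v, hv0, hv⟩ := Matrix.exists_mulVec_eq_zero_iff.2 h0
    exact hv0 (hWinj (show Wm *ᵥ v = Wm *ᵥ 0 by rw [hv, Matrix.mulVec_zero]))
  have hWsur : ∀ x, ∃ c, Wm *ᵥ c = x := fun x => Finite.injective_iff_surjective.1 hWinj x
  have hone : ∀ i, Wm *ᵥ Pi.single i 1 = w i := fun i => by
    rw [hWsum, Finset.sum_eq_single i]
    · simp
    · intro j _ hj; simp [hj]
    · exact fun h => absurd (Finset.mem_univ i) h
  -- the stabiliser of the roots
  let S : (Fin 6 → F) → Prop := fun x => Root fun k => h6 x (w k)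
  have hS : ∀ c, S (Wm *ᵥ c) ↔ Root c := fun c => by
    show Root _ ↔ _
    rw [show (fun k => h6 (Wm *ᵥ c) (w k)) = c from funext (hval c)]
  let K : Subgroup (GL (Fin 6) F) :=
    { carrier := {g | g ∈ G6 ∧ ∀ x, S ((g : M6) *ᵥ x) ↔ S x}
      mul_mem' := fun {a b} ha hb => ⟨(G6).mul_mem ha.1 hb.1, fun x => by
        rw [Units.val_mul, ← Matrix.mulVec_mulVec, ha.2, hb.2]⟩
      one_mem' := ⟨(G6).one_mem, fun x => by simp⟩
      inv_mem' := fun {a} ha => ⟨(G6).inv_mem ha.1, fun x => by
        conv_rhs => rw [show x = (a : M6) *ᵥ (((a⁻¹ : GL (Fin 6) F) : M6) *ᵥ x) by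
          rw [Matrix.mulVec_mulVec, Units.mul_inv, Matrix.one_mulVec]]
        rw [ha.2]⟩ }
  have hHK : decompositionStabilizer D ⊓ G6 ≤ K := by
    rintro g ⟨⟨π, hπ⟩, hgG⟩
    have hgw : ∀ i, ∃ l : F, (g : M6) *ᵥ w i = l • w (π i) := fun i => by
      have : (g : M6) *ᵥ w i ∈ D (π i) := by
        rw [← hπ i]; exact ⟨w i, hwD i, Matrix.toLin'_apply _ _⟩
      rw [hwspan] at this
      obtain ⟨l, hl⟩ := Submodule.mem_span_singleton.1 this
      exact ⟨l, hl.symm⟩
    choose d hd using hgw
    have hmat : (g : M6) * Wm = Wm * monM π d := Matrix.ext_of_mulVec_single fun i => by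
      rw [← Matrix.mulVec_mulVec, ← Matrix.mulVec_mulVec, hone, hd,
        show monM π d *ᵥ Pi.single i 1 = d i • Pi.single (π i) 1 from funext fun k => by
          rw [monM_mulVec]
          by_cases hk : k = π i
          · simp [hk]
          · have : π.symm k ≠ i := fun e => hk (by rw [← e, Equiv.apply_symm_apply])
            simp [hk, this],
        Matrix.mulVec_smul, hone]
    have hd0 : ∀ i, d i ≠ 0 := fun i e => hw0 i (Matrix.mulVec_injective_iff_isUnit.2 g.isUnit
      (show (g : M6) *ᵥ w i = (g : M6) *ᵥ 0 by rw [hd, e, zero_smul, Matrix.mulVec_zero]))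
    have hprod : ∏ i, d i = 1 := by
      have h := congrArg Matrix.det hmat
      rw [Matrix.det_mul, Matrix.det_mul, det_monM,
        show (g : M6).det = 1 by simpa using congrArg Units.val (MonoidHom.mem_ker.1 hgG.2)] at h
      have hs : ((Equiv.Perm.sign π : ℤ) : F) = 1 := by
        rcases Int.units_eq_one_or (Equiv.Perm.sign π) with e | e <;> rw [e] <;> simp
        linear_combination -h2
      rw [hs] at h
      refine mul_left_cancel₀ hWdet ?_
      linear_combination -h
    refine ⟨hgG, fun x => ?_⟩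
    obtain ⟨c, rfl⟩ := hWsur x
    rw [Matrix.mulVec_mulVec, hmat, ← Matrix.mulVec_mulVec, hS, hS]
    exact (root_mono hd0 hprod π).symm
  -- a new element
  set r : Fin 6 → F := Wm *ᵥ (fun _ => 1) with hr'
  have hxr : ∀ c, h6 (Wm *ᵥ c) r = ∑ k, c k := fun c => by
    rw [hr', hWsum (fun _ => 1)]
    let R : (Fin 6 → F) →+ F := AddMonoidHom.mk' (fun y => h6 (Wm *ᵥ c) y) (fun a b => hr.sesq.add_right _ a b)
    show R _ = _
    rw [map_sum]
    exact Finset.sum_congr rfl fun k _ => by
      show h6 _ ((1 : F) • w k) = _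
      rw [one_smul, hval]
  obtain ⟨T, hTG, hT⟩ := exists_T hF' (v := r) (by rw [hr', hxr]; simp [h2, show (6 : F) = 0 by linear_combination 3 * h2])
  have hTW : ∀ c, (T : M6) *ᵥ (Wm *ᵥ c) = Wm *ᵥ (fun k => c k + ∑ l, c l) := fun c => by
    rw [hT, hxr, hr', ← Matrix.mulVec_smul, ← Matrix.mulVec_add]
    congr 1
    funext k
    simp
  have hTK : T ∈ K := ⟨hTG, fun x => by
    obtain ⟨c, rfl⟩ := hWsur x
    rw [hTW, hS, hS]
    refine ⟨fun h => ?_, root_step hF c⟩
    have h' := root_step hF _ h
    convert h' using 1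
    funext k
    rw [Finset.sum_add_distrib, Finset.sum_const, Finset.card_univ, Fintype.card_fin, nsmul_eq_mul]
    push_cast
    linear_combination -(3 * (∑ l, c l) + ∑ l, c l) * h2⟩
  refine ⟨K, lt_of_le_of_ne hHK fun e => ?_, lt_of_le_of_ne (fun g hg => hg.1) fun e => ?_⟩
  · rw [← e] at hTK
    obtain ⟨π, hπ⟩ := hTK.1
    have hm : (T : M6) *ᵥ w 0 ∈ D (π 0) := by
      rw [← hπ 0]; exact ⟨w 0, hwD 0, Matrix.toLin'_apply _ _⟩
    rw [hwspan] at hm
    obtain ⟨l, hl⟩ := Submodule.mem_span_singleton.1 hm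
    rw [← hone (π 0), ← Matrix.mulVec_smul, ← hone 0, hTW] at hl
    have hl' := hWinj hl
    obtain ⟨k, hk1, hk2⟩ : ∃ k : Fin 6, k ≠ π 0 ∧ k ≠ 0 := by
      by_cases h : π 0 = 1
      · exact ⟨2, by rw [h]; decide, by decide⟩
      · exact ⟨1, Ne.symm h, by decide⟩
    have := congrFun hl' k
    simp [hk1, hk2] at this
  · let v : Fin 6 → F := Wm *ᵥ ![1, 1, 1, 1, 0, 0]
    have hxv : ∀ c, h6 (Wm *ᵥ c) v = c 0 + c 1 + c 2 + c 3 := fun c => by
      show h6 _ (Wm *ᵥ _) = _
      rw [hWsum ![1, 1, 1, 1, 0, 0]]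
      let R : (Fin 6 → F) →+ F :=
        AddMonoidHom.mk' (fun y => h6 (Wm *ᵥ c) y) (fun a b => hr.sesq.add_right _ a b)
      show R _ = _
      rw [map_sum]
      simp only [R, AddMonoidHom.mk'_apply, hr.sesq.smul_right, hval, Fin.sum_univ_six]
      simp
    obtain ⟨T', hT'G, hT'⟩ := exists_T hF' (v := v) (by
      show h6 (Wm *ᵥ _) v = 0
      rw [hxv]
      simp
      linear_combination 2 * h2)
    have hx : Root ![(1 : F), 0, 0, 0, 1, 0] := Or.inl ⟨0, 4, by decide, fun k => by
      fin_cases k <;> simp⟩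
    rw [← e] at hT'G
    have := (hT'G.2 _).2 ((hS _).2 hx)
    rw [hT', hxv, show Wm *ᵥ ![(1 : F), 0, 0, 0, 1, 0] +
        (![(1 : F), 0, 0, 0, 1, 0] 0 + ![(1 : F), 0, 0, 0, 1, 0] 1 + ![(1 : F), 0, 0, 0, 1, 0] 2 +
          ![(1 : F), 0, 0, 0, 1, 0] 3) • v = Wm *ᵥ ![0, 1, 1, 1, 1, 0] by
      show _ + _ • (Wm *ᵥ _) = _
      rw [← Matrix.mulVec_smul, ← Matrix.mulVec_add]
      congr 1
      funext k
      fin_cases k <;> simp
      linear_combination h2, hS] at this
    rcases this with ⟨i, j, hij, hk⟩ | ⟨h0, -⟩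
    · have h1 := (hk 1).1 (by simp)
      have h3 := (hk 2).1 (by simp)
      have h4 := (hk 3).1 (by simp)
      simp only [Fin.ext_iff] at h1 h3 h4
      norm_num at h1 h3 h4
      omega
    · exact h0 0 (by simp)

end CfsgLib.MaxSub.SUSix
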