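/-
A symplectic rational structure fixed by a cubic field in `SU_6(2)`.
-/
import Cfsg.Agent.Lib.MaxSub.SUSix.Frame
import Mathlib.LinearAlgebra.Dual.Lemmas
import Mathlib.FieldTheory.Finite.Basic

set_option autoImplicit false
set_option maxHeartbeats 800000
set_option linter.unusedSectionVars false

namespace CfsgLib.MaxSub.SUSix

open Matrix Module Cfsg Cfsg.Geo
open CfsgLib.Aschbacher (isRefl_of_unitary exists_unitary_hermForm)

variable {F : Type*} [Field F] [Fintype F] {L : Type*} [Field L] [Algebra F L]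

local notation "h6" => Cfsg.hermForm 6 F 2

/-- A cubic field closed under the adjoint. -/
structure Cub (ρ : L →ₐ[F] Matrix (Fin 6) (Fin 6) F) (s : L →+* L) (w : F) : Prop where
  card : Fintype.card F = 4
  rank : finrank F L = 3
  adj : ∀ (k : L) (x y : Fin 6 → F),
    Cfsg.hermForm 6 F 2 (ρ k *ᵥ x) y = Cfsg.hermForm 6 F 2 x (ρ (s k) *ᵥ y)
  invol : ∀ k, s (s k) = k
  base : ∀ a : F, s (algebraMap F L a) = algebraMap F L (a ^ 2)
  omega : w * w + w + 1 = 0

variable {ρ : L →ₐ[F] Matrix (Fin 6) (Fin 6) F} {s : L →+* L} {w : F}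

theorem Cub.two (C : Cub ρ s w) : (2 : F) = 0 :=
  CfsgLib.Aschbacher.two_eq_zero_iff.2 (by rw [C.card]; decide)

theorem Cub.twoL (C : Cub ρ s w) : (2 : L) = 0 := by
  rw [← map_ofNat (algebraMap F L) 2, C.two, map_zero]

theorem Cub.fin (C : Cub ρ s w) : FiniteDimensional F L :=
  FiniteDimensional.of_finrank_pos (by rw [C.rank]; decide)

theorem Cub.eq_of_add (C : Cub ρ s w) {x y : L} (h : x + y = 0) : x = y := by
  linear_combination h - y * C.twoL

theorem Cub.sq (C : Cub ρ s w) (a : F) : (a ^ 2) ^ 2 = a := by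
  rw [← pow_mul, show (2 * 2 : ℕ) = Fintype.card F from C.card.symm, FiniteField.pow_card]

theorem Cub.sesq (C : Cub ρ s w) : ∀ (x y z : Fin 6 → F) (c : F),
    h6 (x + y) z = h6 x z + h6 y z ∧ h6 x (y + z) = h6 x y + h6 x z ∧
    h6 (c • x) y = c * h6 x y ∧ h6 x (c • y) = c ^ 2 * h6 x y ∧ h6 y x = h6 x y ^ 2 := by
  have hF : Fintype.card F = 2 ^ 2 := C.card
  intro x y z c
  refine ⟨UnitaryTransvection.h_add_left x y z, ?_, UnitaryTransvection.h_smul_left c x y, ?_, ?_⟩
  · obtain ⟨σ, hσ, hf⟩ := exists_unitary_hermForm (n := 6) hF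
    exact (isRefl_of_unitary hf).sesq.add_right x y z
  · rw [UnitaryTransvection.h_smul_right hF, UnitaryTransvection.frob_apply]
  · rw [← UnitaryTransvection.h_swap hF x y, UnitaryTransvection.frob_apply]

theorem Cub.add_right (C : Cub ρ s w) (x y z : Fin 6 → F) : h6 x (y + z) = h6 x y + h6 x z :=
  (C.sesq x y z 0).2.1

theorem Cub.add_left (C : Cub ρ s w) (x y z : Fin 6 → F) : h6 (x + y) z = h6 x z + h6 y z :=
  (C.sesq x y z 0).1

theorem Cub.swap (C : Cub ρ s w) (x y : Fin 6 → F) : h6 y x = h6 x y ^ 2 :=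
  (C.sesq x y y 0).2.2.2.2

/-- The functional of two vectors. -/
def pair (ρ : L →ₐ[F] Matrix (Fin 6) (Fin 6) F) (x y : Fin 6 → F) : L →ₗ[F] F where
  toFun k := Cfsg.hermForm 6 F 2 (ρ k *ᵥ x) y
  map_add' a b := by rw [map_add, Matrix.add_mulVec, UnitaryTransvection.h_add_left]
  map_smul' c a := by
    rw [map_smul, Matrix.smul_mulVec, UnitaryTransvection.h_smul_left, RingHom.id_apply, smul_eq_mul]

theorem pair_apply (x y : Fin 6 → F) (k : L) : pair ρ x y k = h6 (ρ k *ᵥ x) y := rfl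

theorem pair_mul (x y : Fin 6 → F) (k j : L) : pair ρ (ρ j *ᵥ x) y k = pair ρ x y (k * j) := by
  rw [pair_apply, pair_apply, Matrix.mulVec_mulVec, ← map_mul]

theorem Cub.pair_conj (C : Cub ρ s w) (x y : Fin 6 → F) (k : L) :
    pair ρ x y (s k) = pair ρ y x k ^ 2 := by
  rw [pair_apply, pair_apply, C.adj, C.invol, C.swap]

theorem Cub.pair_right (C : Cub ρ s w) (x y : Fin 6 → F) (k j : L) :
    pair ρ x (ρ j *ᵥ y) k = pair ρ x y (s j * k) := by
  rw [pair_apply, pair_apply]
  conv_lhs => rw [← C.invol j]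
  rw [← C.adj, Matrix.mulVec_mulVec, ← map_mul]

/-- A functional commuting with the involutions. -/
def Herm (s : L →+* L) (ψ : L →ₗ[F] F) : Prop := ∀ k, ψ (s k) = ψ k ^ 2

theorem Cub.herm_pair (C : Cub ρ s w) (x : Fin 6 → F) : Herm s (pair ρ x x) :=
  fun k => C.pair_conj x x k

/-- Hermitian functionals are given by fixed elements. -/
theorem Cub.solve (C : Cub ρ s w) {T : L →ₗ[F] F} (hT : T ≠ 0) (hTh : Herm s T) {ψ : L →ₗ[F] F}
    (hψ : Herm s ψ) : ∃ e, s e = e ∧ ∀ k, T (k * e) = ψ k := by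
  haveI := C.fin
  let Φ : L →ₗ[F] (L →ₗ[F] F) :=
    { toFun := fun j => T.comp (LinearMap.mulRight F j)
      map_add' := fun a b => LinearMap.ext fun k => by simp [mul_add]
      map_smul' := fun c a => LinearMap.ext fun k => by simp }
  have hΦ : ∀ j k, Φ j k = T (k * j) := fun j k => rfl
  have hinj : Function.Injective Φ := (injective_iff_map_eq_zero Φ).2 fun j hj => by
    by_contra hj0
    refine hT (LinearMap.ext fun k => ?_)
    have := LinearMap.congr_fun hj (k * j⁻¹)
    rwa [hΦ, mul_assoc, inv_mul_cancel₀ hj0, mul_one] at this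
  obtain ⟨e, he⟩ := ((LinearMap.injective_iff_surjective_of_finrank_eq_finrank
    (Subspace.dual_finrank_eq (K := F) (V := L)).symm).1 hinj) ψ
  refine ⟨e, hinj (LinearMap.ext fun k => ?_), fun k => by rw [← hΦ, he]⟩
  have h1 : Φ e (s k) = Φ e k ^ 2 := by rw [he]; exact hψ k
  have h2 : T (k * s e) = (T (s (k * s e))) ^ 2 := by rw [hTh, C.sq]
  rw [hΦ, hΦ] at h1
  rw [hΦ, hΦ, h2, map_mul, C.invol, h1, C.sq]

theorem Cub.exists_root (C : Cub ρ s w) {μ : L} (hμ : s μ = μ) : ∃ r, s r = r ∧ r * r = μ := by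
  haveI := C.fin
  haveI : Finite L := Module.finite_of_finite F
  haveI : CharP L 2 := CharTwo.of_one_ne_zero_of_two_eq_zero one_ne_zero C.twoL
  obtain ⟨r, hr⟩ := FiniteField.isSquare_of_char_two (ringChar.eq L 2) μ
  refine ⟨r, ?_, hr.symm⟩
  have h : (s r - r) * (s r - r) = 0 := by
    have h1 : s r * s r = r * r := by rw [← map_mul, ← hr, hμ, hr]
    linear_combination h1 + (r * r - s r * r) * C.twoL
  exact sub_eq_zero.1 (mul_self_eq_zero.1 h)

/-- A vector whose line is totally singular. -/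
theorem Cub.exists_singular (C : Cub ρ s w) : ∃ u : Fin 6 → F, u ≠ 0 ∧ ∀ k, pair ρ u u k = 0 := by
  haveI := C.fin
  obtain ⟨a, ha⟩ := exists_ne (0 : Fin 6 → F)
  by_cases haa : pair ρ a a = 0
  · exact ⟨a, ha, fun k => by rw [haa]; rfl⟩
  obtain ⟨x, hx⟩ : ∃ x, ∀ j, x ≠ ρ j *ᵥ a := by
    by_contra hc
    push Not at hc
    let E : L →ₗ[F] (Fin 6 → F) :=
      { toFun := fun j => ρ j *ᵥ a
        map_add' := fun i j => by rw [map_add, Matrix.add_mulVec]
        map_smul' := fun c j => by rw [map_smul, Matrix.smul_mulVec, RingHom.id_apply] }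
    have h1 := LinearMap.finrank_range_le E
    rw [LinearMap.range_eq_top.2 fun y => (hc y).imp fun j hj => hj.symm, finrank_top,
      Module.finrank_fin_fun, C.rank] at h1
    omega
  -- a vector orthogonal to the line of `a`
  let Φ : L →ₗ[F] (L →ₗ[F] F) :=
    { toFun := fun j => pair ρ (ρ j *ᵥ a) a
      map_add' := fun i j => LinearMap.ext fun k => by
        rw [LinearMap.add_apply, pair_mul, pair_mul, pair_mul, mul_add, map_add]
      map_smul' := fun c j => LinearMap.ext fun k => by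
        rw [LinearMap.smul_apply, RingHom.id_apply, pair_mul, pair_mul, mul_smul_comm, map_smul] }
  have hinj : Function.Injective Φ := (injective_iff_map_eq_zero Φ).2 fun j hj => by
    by_contra hj0
    refine haa (LinearMap.ext fun k => ?_)
    have := LinearMap.congr_fun hj (k * j⁻¹)
    rwa [show Φ j (k * j⁻¹) = pair ρ (ρ j *ᵥ a) a (k * j⁻¹) from rfl, pair_mul, mul_assoc,
      inv_mul_cancel₀ hj0, mul_one] at this
  obtain ⟨j, hj⟩ := ((LinearMap.injective_iff_surjective_of_finrank_eq_finrank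
    (Subspace.dual_finrank_eq (K := F) (V := L)).symm).1 hinj) (pair ρ a x)
  obtain ⟨b, hb⟩ : ∃ b, b = x + ρ (s j) *ᵥ a := ⟨_, rfl⟩
  have hba : ∀ k, pair ρ a b k = 0 := fun k => by
    rw [hb, pair_apply, C.add_right, ← pair_apply, ← pair_apply, C.pair_right, C.invol, mul_comm,
      ← pair_mul, ← hj]
    show Φ j k + Φ j k = 0
    linear_combination (Φ j k) * C.two
  have hb0 : ∀ i, b ≠ ρ i *ᵥ a := fun i e => hx (i - s j) (by
    rw [map_sub, Matrix.sub_mulVec, ← e, hb]; abel)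
  by_cases hbb : pair ρ b b = 0
  · exact ⟨b, fun e => hb0 0 (by rw [e, map_zero, Matrix.zero_mulVec]),
      fun k => by rw [hbb]; rfl⟩
  obtain ⟨μ, hμs, hμ⟩ := C.solve hbb (C.herm_pair b) (C.herm_pair a)
  obtain ⟨r, hrs, hr⟩ := C.exists_root hμs
  refine ⟨ρ r *ᵥ b + a, fun e => ?_, fun k => ?_⟩
  · by_cases hr0 : r = 0
    · rw [hr0, map_zero, Matrix.zero_mulVec, zero_add] at e
      exact ha e
    · refine hb0 (-r⁻¹) ?_
      have h := congrArg (fun z => ρ r⁻¹ *ᵥ z) (eq_neg_of_add_eq_zero_left e)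
      simp only [Matrix.mulVec_mulVec, ← map_mul, inv_mul_cancel₀ hr0, map_one,
        Matrix.one_mulVec, Matrix.mulVec_neg] at h
      rw [h, map_neg, Matrix.neg_mulVec]
  · have hab : ∀ k, pair ρ b a k = 0 := fun k => by
      rw [← C.invol k, C.pair_conj, hba]
      ring
    rw [pair_apply, Matrix.mulVec_add, C.add_left, C.add_right, C.add_right, ← pair_apply,
      ← pair_apply, ← pair_apply, ← pair_apply, pair_mul, pair_mul, C.pair_right, C.pair_right,
      hrs, hba, hab, ← mul_assoc, mul_comm r k, mul_assoc, hr, hμ]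
    linear_combination (pair ρ a a k) * C.two

/-- A symplectic pair. -/
structure Pair6 (ρ : L →ₐ[F] Matrix (Fin 6) (Fin 6) F) (s : L →+* L) (T : L →ₗ[F] F)
    (u v : Fin 6 → F) : Prop where
  ne : T ≠ 0
  herm : ∀ k, T (s k) = T k ^ 2
  uu : ∀ k, pair ρ u u k = 0
  vv : ∀ k, pair ρ v v k = 0
  uv : ∀ k, pair ρ u v k = T k

theorem Cub.exists_pair (C : Cub ρ s w) : ∃ T u v, Pair6 ρ s T u v := by
  haveI := C.fin
  obtain ⟨u, hu, huu⟩ := C.exists_singular
  obtain ⟨y, hy⟩ : ∃ y, h6 u y ≠ 0 := by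
    by_contra hc
    push Not at hc
    exact hu (UnitaryTransvection.h_nondeg (hF := (C.card : Fintype.card F = 2 ^ 2)) hc)
  -- a hermitian functional
  obtain ⟨ψ, hψ⟩ : ∃ ψ : L →ₗ[F] F, ψ 1 = w := by
    obtain ⟨f, hf, -⟩ := Submodule.exists_dual_map_eq_bot_of_notMem (p := (⊥ : Submodule F L))
      (x := (1 : L)) (by simp) inferInstance
    exact ⟨(w / f 1) • f, by simp [div_mul_cancel₀ _ hf]⟩
  let T : L →ₗ[F] F :=
    { toFun := fun k => ψ k + ψ (s k) ^ 2
      map_add' := fun a b => by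
        rw [map_add, map_add, map_add]
        linear_combination (ψ (s a) * ψ (s b)) * C.two
      map_smul' := fun c k => by
        have e : s (c • k) = (c ^ 2) • s k := by
          rw [Algebra.smul_def, map_mul, C.base, ← Algebra.smul_def]
        rw [e, map_smul, map_smul, smul_eq_mul, smul_eq_mul, RingHom.id_apply, smul_eq_mul, mul_pow,
          C.sq]
        ring }
  have hTh : Herm s T := fun k => by
    show ψ (s k) + ψ (s (s k)) ^ 2 = (ψ k + ψ (s k) ^ 2) ^ 2
    rw [C.invol]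
    linear_combination -(C.sq (ψ (s k))) - (ψ k * ψ (s k) ^ 2) * C.two
  have hT : T ≠ 0 := fun e => one_ne_zero (α := F) (by
    have h := LinearMap.congr_fun e 1
    rw [show T 1 = ψ 1 + ψ (s 1) ^ 2 from rfl, s.map_one, hψ, LinearMap.zero_apply] at h
    linear_combination C.omega - h)
  -- a partner
  let Φ : L →ₗ[F] (L →ₗ[F] F) :=
    { toFun := fun j => pair ρ (ρ j *ᵥ u) y
      map_add' := fun i j => LinearMap.ext fun k => by
        rw [LinearMap.add_apply, pair_mul, pair_mul, pair_mul, mul_add, map_add]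
      map_smul' := fun c j => LinearMap.ext fun k => by
        rw [LinearMap.smul_apply, RingHom.id_apply, pair_mul, pair_mul, mul_smul_comm, map_smul] }
  have hinj : Function.Injective Φ := (injective_iff_map_eq_zero Φ).2 fun j hj => by
    by_contra hj0
    refine hy ?_
    have := LinearMap.congr_fun hj j⁻¹
    rwa [show Φ j j⁻¹ = pair ρ (ρ j *ᵥ u) y j⁻¹ from rfl, pair_mul, inv_mul_cancel₀ hj0,
      pair_apply, map_one, Matrix.one_mulVec] at this
  obtain ⟨j, hj⟩ := ((LinearMap.injective_iff_surjective_of_finrank_eq_finrank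
    (Subspace.dual_finrank_eq (K := F) (V := L)).symm).1 hinj) T
  obtain ⟨v₂, hv₂⟩ : ∃ v₂, v₂ = ρ (s j) *ᵥ y := ⟨_, rfl⟩
  have huv₂ : ∀ k, pair ρ u v₂ k = T k := fun k => by
    rw [hv₂, C.pair_right, C.invol, mul_comm, ← pair_mul, ← hj]
    rfl
  obtain ⟨e, hes, he⟩ := C.solve hT hTh (C.herm_pair v₂)
  obtain ⟨e', he'⟩ : ∃ e', e' = algebraMap F L w * e := ⟨_, rfl⟩
  refine ⟨T, u, v₂ + ρ e' *ᵥ u, hT, hTh, huu, fun k => ?_, fun k => ?_⟩
  · have h1 : pair ρ (ρ e' *ᵥ u) v₂ k = w * pair ρ v₂ v₂ k := by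
      rw [pair_mul, huv₂, ← he k, he', mul_left_comm, ← Algebra.smul_def, map_smul, smul_eq_mul]
    have h2 : pair ρ v₂ (ρ e' *ᵥ u) k = w ^ 2 * pair ρ v₂ v₂ k := by
      rw [← C.invol k, C.pair_conj, pair_mul, huv₂, he', mul_left_comm, ← Algebra.smul_def,
        map_smul, smul_eq_mul, he, C.herm_pair v₂ k, C.invol, mul_pow, C.sq]
    have h3 : pair ρ (ρ e' *ᵥ u) (ρ e' *ᵥ u) k = 0 := by rw [pair_mul, C.pair_right, huu]
    rw [pair_apply, Matrix.mulVec_add, C.add_left, C.add_right, C.add_right, ← pair_apply,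
      ← pair_apply, ← pair_apply, ← pair_apply, h1, h2, h3]
    linear_combination (pair ρ v₂ v₂ k) * C.omega
  · rw [pair_apply, C.add_right, ← pair_apply, ← pair_apply, huv₂, C.pair_right, huu, add_zero]

/-- The vector with coordinates `α, β`. -/
def comb (ρ : L →ₐ[F] Matrix (Fin 6) (Fin 6) F) (u v : Fin 6 → F) (α β : L) : Fin 6 → F :=
  ρ α *ᵥ u + ρ β *ᵥ v

theorem mul_comb (u v : Fin 6 → F) (c α β : L) :
    ρ c *ᵥ comb ρ u v α β = comb ρ u v (c * α) (c * β) := by
  simp only [comb, Matrix.mulVec_add, Matrix.mulVec_mulVec, map_mul]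

theorem comb_add (u v : Fin 6 → F) (α β α' β' : L) :
    comb ρ u v α β + comb ρ u v α' β' = comb ρ u v (α + α') (β + β') := by
  simp only [comb, map_add, Matrix.add_mulVec]; abel

variable {T : L →ₗ[F] F} {u v : Fin 6 → F}

theorem Pair6.vu (P : Pair6 ρ s T u v) (C : Cub ρ s w) (k : L) : pair ρ v u k = T k := by
  rw [← C.invol k, C.pair_conj, P.uv, P.herm, C.invol]
  rw [← pow_mul]
  exact (by rw [show (2 * 2 : ℕ) = Fintype.card F from C.card.symm, FiniteField.pow_card])

theorem Pair6.form (P : Pair6 ρ s T u v) (C : Cub ρ s w) (α β γ δ k : L) :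
    pair ρ (comb ρ u v α β) (comb ρ u v γ δ) k =
      T (s δ * k * α) + T (s γ * k * β) := by
  rw [pair_apply, comb, comb, Matrix.mulVec_add, C.add_left, C.add_right, C.add_right,
    ← pair_apply, ← pair_apply, ← pair_apply, ← pair_apply, pair_mul, pair_mul, C.pair_right,
    C.pair_right, C.pair_right, C.pair_right, pair_mul, pair_mul, P.uu, P.vv, P.uv, P.vu C, zero_add, add_zero]
  congr 2 <;> ring

theorem Pair6.inj (P : Pair6 ρ s T u v) (C : Cub ρ s w) {α β : L} (h : comb ρ u v α β = 0) :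
    α = 0 ∧ β = 0 := by
  have key : ∀ γ δ, T (s δ * α) + T (s γ * β) = 0 := fun γ δ => by
    have h1 := P.form C α β γ δ 1
    rw [pair_apply, map_one, Matrix.one_mulVec, h, mul_one, mul_one] at h1
    rw [← h1]
    simp [Cfsg.hermForm]
  constructor
  · by_contra h0
    refine P.ne (LinearMap.ext fun k => ?_)
    have := key 0 (s (k * α⁻¹))
    rwa [C.invol, mul_assoc, inv_mul_cancel₀ h0, mul_one, map_zero, zero_mul, map_zero, add_zero] at this
  · by_contra h0
    refine P.ne (LinearMap.ext fun k => ?_)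
    have := key (s (k * β⁻¹)) 0
    rwa [C.invol, mul_assoc, inv_mul_cancel₀ h0, mul_one, map_zero, zero_mul, map_zero, zero_add] at this

/-- The coordinates over the cubic field. -/
theorem Pair6.bij (P : Pair6 ρ s T u v) (C : Cub ρ s w) : ∃ Φ : (L × L) ≃ₗ[F] (Fin 6 → F),
    ∀ α β, Φ (α, β) = comb ρ u v α β := by
  haveI := C.fin
  let f : (L × L) →ₗ[F] (Fin 6 → F) :=
    { toFun := fun p => comb ρ u v p.1 p.2
      map_add' := fun p p' => (comb_add _ _ _ _ _ _).symm
      map_smul' := fun c p => by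
        simp [comb, Matrix.smul_mulVec, smul_add] }
  have hinj : Function.Injective f := (injective_iff_map_eq_zero f).2 fun p hp => by
    obtain ⟨h1, h2⟩ := P.inj C (α := p.1) (β := p.2) hp
    exact Prod.ext h1 h2
  have hd : finrank F (L × L) = finrank F (Fin 6 → F) := by
    rw [Module.finrank_prod, C.rank, Module.finrank_fin_fun]
  exact ⟨LinearEquiv.ofBijective f ⟨hinj,
    (LinearMap.injective_iff_surjective_of_finrank_eq_finrank hd).1 hinj⟩, fun α β => rfl⟩

end CfsgLib.MaxSub.SUSix
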