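/-
The normaliser of the cubic field fixes the rational structure up to scalars.
-/
import Cfsg.Agent.Lib.MaxSub.SUSix.CubicBasis

set_option autoImplicit false
set_option maxHeartbeats 800000
set_option linter.unusedSectionVars false

namespace CfsgLib.MaxSub.SUSix

open Matrix Module Cfsg Cfsg.Geo

variable {F : Type*} [Field F] [Fintype F] {L : Type*} [Field L] [Algebra F L]
  {ρ : L →ₐ[F] Matrix (Fin 6) (Fin 6) F} {s : L →+* L} {w : F}
  {T : L →ₗ[F] F} {u v : Fin 6 → F}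

local notation "h6" => Cfsg.hermForm 6 F 2
local notation "M6" => Matrix (Fin 6) (Fin 6) F

/-- The rational vectors. -/
def InW (ρ : L →ₐ[F] Matrix (Fin 6) (Fin 6) F) (s : L →+* L) (u v x : Fin 6 → F) : Prop :=
  ∃ α β : L, s α = α ∧ s β = β ∧ x = comb ρ u v α β

theorem Cub.T_eq_zero (C : Cub ρ s w) (P : Pair6 ρ s T u v) {x : L} (h : ∀ k, T (k * x) = 0) :
    x = 0 := by
  by_contra hx
  refine P.ne (LinearMap.ext fun k => ?_)
  have := h (k * x⁻¹)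
  rwa [mul_assoc, inv_mul_cancel₀ hx, mul_one] at this

/-- An element of the normaliser fixes the rational structure after a scalar of norm one. -/
theorem Cub.lattice (C : Cub ρ s w) (P : Pair6 ρ s T u v) {g : M6}
    (hg : ∀ x y, h6 (g *ᵥ x) (g *ᵥ y) = h6 x y) {θ : L → L}
    (hθ : ∀ k x, g *ᵥ (ρ k *ᵥ x) = ρ (θ k) *ᵥ (g *ᵥ x))
    (hθsur : Function.Surjective θ) (hθs : ∀ k, θ (s k) = s (θ k)) :
    ∃ c : L, c * s c = 1 ∧ ∀ x, InW ρ s u v x → InW ρ s u v (ρ (s c) *ᵥ (g *ᵥ x)) := by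
  obtain ⟨Φ, hΦ⟩ := P.bij C
  obtain ⟨⟨α, β⟩, hu⟩ := Φ.surjective (g *ᵥ u)
  obtain ⟨⟨γ, δ⟩, hv⟩ := Φ.surjective (g *ᵥ v)
  rw [hΦ] at hu hv
  have hpair : ∀ (x y : Fin 6 → F) k, pair ρ (g *ᵥ x) (g *ᵥ y) (θ k) = pair ρ x y k := fun x y k => by
    rw [pair_apply, pair_apply, ← hθ, hg]
  have halt : ∀ a b : L, (∀ k, T (s b * k * a) + T (s a * k * b) = 0) →
      a * s b = s (a * s b) := fun a b h => by
    refine C.eq_of_add (C.T_eq_zero P fun k => ?_)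
    rw [s.map_mul, C.invol, mul_add, map_add, ← h k]
    congr 2 <;> ring
  have h1 : α * s β = s (α * s β) := halt α β fun k => by
    obtain ⟨j, rfl⟩ := hθsur k
    rw [← P.form C, hu, hpair, P.uu]
  have h2 : γ * s δ = s (γ * s δ) := halt γ δ fun k => by
    obtain ⟨j, rfl⟩ := hθsur k
    rw [← P.form C, hv, hpair, P.vv]
  obtain ⟨D, hD⟩ : ∃ D, D = α * s δ + β * s γ := ⟨_, rfl⟩
  have hDT : ∀ j, T (θ j * D) = T j := fun j => by
    have := P.form C α β γ δ (θ j)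
    rw [hu, hv, hpair, P.uv] at this
    rw [this, hD, mul_add, map_add]
    congr 2 <;> ring
  have hDs : s D = D := by
    refine C.eq_of_add (C.T_eq_zero P fun k => ?_)
    obtain ⟨j, rfl⟩ := hθsur k
    have : T (θ j * s D) = T j := by
      rw [← C.sq (T j), ← P.herm, ← C.sq (T (θ j * s D)), ← P.herm, s.map_mul, C.invol, ← hθs, hDT]
    rw [mul_add, map_add, this, hDT]
    linear_combination (T j) * C.two
  have hD0 : D ≠ 0 := fun e => P.ne (LinearMap.ext fun j => by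
    rw [← hDT, e, mul_zero, map_zero, LinearMap.zero_apply])
  -- the scalar
  obtain ⟨c, hc, hαr, hβr, hne⟩ : ∃ c : L, c * s c = 1 ∧ s (s c * α) = s c * α ∧
      s (s c * β) = s c * β ∧ (s c * α ≠ 0 ∨ s c * β ≠ 0) := by
    have key : ∀ a b : L, a ≠ 0 → a * s b = s (a * s b) → ∃ c : L, c * s c = 1 ∧
        s (s c * a) = s c * a ∧ s (s c * b) = s c * b ∧ s c * a ≠ 0 := by
      intro a b ha hab
      obtain ⟨r, hrs, hr⟩ := C.exists_root (μ := a * s a) (by rw [map_mul, C.invol, mul_comm])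
      have hr0 : r ≠ 0 := fun e => by
        rw [e, mul_zero, eq_comm, mul_eq_zero, map_eq_zero] at hr
        exact ha (hr.elim id id)
      have hsa : s a ≠ 0 := (map_ne_zero s).2 ha
      refine ⟨a / r, ?_, ?_, ?_, ?_⟩
      · rw [map_div₀, hrs, div_mul_div_comm, hr, div_self (mul_ne_zero ha hsa)]
      · rw [map_mul, C.invol, map_div₀, hrs]; ring
      · rw [map_mul, C.invol, map_div₀, hrs, div_mul_eq_mul_div, div_mul_eq_mul_div, hab, map_mul,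
          C.invol]
      · rw [map_div₀, hrs]; exact mul_ne_zero (div_ne_zero hsa hr0) ha
    by_cases hα : α = 0
    · have hβ : β ≠ 0 := fun e => hD0 (by rw [hD, hα, e, zero_mul, zero_mul, add_zero])
      obtain ⟨c, hc, hb, ha, hb0⟩ := key β α hβ (by
        rw [hα, map_zero, mul_zero, map_zero])
      exact ⟨c, hc, ha, hb, Or.inr hb0⟩
    · obtain ⟨c, hc, ha, hb, ha0⟩ := key α β hα h1
      exact ⟨c, hc, ha, hb, Or.inl ha0⟩
  obtain ⟨a₀, ha₀⟩ : ∃ a₀, a₀ = s c * α := ⟨_, rfl⟩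
  obtain ⟨b₀, hb₀⟩ : ∃ b₀, b₀ = s c * β := ⟨_, rfl⟩
  obtain ⟨γ₁, hγ₁⟩ : ∃ γ₁, γ₁ = s c * γ := ⟨_, rfl⟩
  obtain ⟨δ₁, hδ₁⟩ : ∃ δ₁, δ₁ = s c * δ := ⟨_, rfl⟩
  rw [← ha₀] at hαr
  rw [← hb₀] at hβr
  have hD' : a₀ * s δ₁ + b₀ * s γ₁ = D := by
    rw [ha₀, hb₀, hγ₁, hδ₁, hD, map_mul, map_mul, C.invol]
    linear_combination (α * s δ + β * s γ) * hc
  have hD'' : a₀ * δ₁ + b₀ * γ₁ = D := by
    have h := congrArg s hD'
    rw [map_add, map_mul, map_mul, C.invol, C.invol, hαr, hβr, hDs] at h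
    exact h
  have h2' : γ₁ * s δ₁ = s γ₁ * δ₁ := by
    have h := h2
    rw [map_mul, C.invol] at h
    rw [hγ₁, hδ₁, map_mul, map_mul, C.invol]
    linear_combination (s c * c) * h
  have hγr : s γ₁ = γ₁ := by
    have h : (γ₁ + s γ₁) * D = 0 := by
      calc (γ₁ + s γ₁) * D = γ₁ * D + s γ₁ * D := by ring
        _ = γ₁ * (a₀ * s δ₁ + b₀ * s γ₁) + s γ₁ * (a₀ * δ₁ + b₀ * γ₁) := by rw [hD', hD'']
        _ = 0 := by linear_combination a₀ * h2' + (a₀ * (s γ₁ * δ₁) + b₀ * (γ₁ * s γ₁)) * C.twoL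
    exact (C.eq_of_add ((mul_eq_zero.1 h).resolve_right hD0)).symm
  have hδr : s δ₁ = δ₁ := by
    have h : (δ₁ + s δ₁) * D = 0 := by
      calc (δ₁ + s δ₁) * D = δ₁ * D + s δ₁ * D := by ring
        _ = δ₁ * (a₀ * s δ₁ + b₀ * s γ₁) + s δ₁ * (a₀ * δ₁ + b₀ * γ₁) := by rw [hD', hD'']
        _ = 0 := by linear_combination b₀ * h2' + (a₀ * (δ₁ * s δ₁) + b₀ * (s γ₁ * δ₁)) * C.twoL
    exact (C.eq_of_add ((mul_eq_zero.1 h).resolve_right hD0)).symm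
  refine ⟨c, hc, ?_⟩
  rintro _ ⟨a, b, ha, hb, rfl⟩
  refine ⟨θ a * a₀ + θ b * γ₁, θ a * b₀ + θ b * δ₁, ?_, ?_, ?_⟩
  · rw [map_add, map_mul, map_mul, ← hθs, ← hθs, ha, hb, hαr, hγr]
  · rw [map_add, map_mul, map_mul, ← hθs, ← hθs, ha, hb, hβr, hδr]
  · rw [comb, Matrix.mulVec_add, hθ, hθ, ← hu, ← hv, mul_comb, mul_comb, comb_add, mul_comb,
      ha₀, hb₀, hγ₁, hδ₁]
    congr 1 <;> ring

end CfsgLib.MaxSub.SUSix
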