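/-
Cubic fields are not maximal in `SU_6(2)`.
-/
import Cfsg.Agent.Lib.MaxSub.SUSix.CubicLattice
import Cfsg.Agent.Lib.Aschbacher.Singer
import Mathlib.FieldTheory.Finite.GaloisField
import Mathlib.RingTheory.Norm.Transitivity

set_option autoImplicit false
set_option maxHeartbeats 1000000
set_option linter.unusedSectionVars false

namespace CfsgLib.MaxSub.SUSix

open Matrix Module Cfsg Cfsg.Geo
open CfsgLib.Aschbacher (exists_unitary_hermForm mulVec_ext_of_form)

variable {F : Type*} [Field F] [Fintype F]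

local notation "h6" => Cfsg.hermForm 6 F 2
local notation "M6" => Matrix (Fin 6) (Fin 6) F
local notation "G6" => Cfsg.GU 6 F 2 ⊓ specialLinear (Fin 6) F

theorem cubic_aux {L : Type*} [Field L] [Algebra F L] (hF : Fintype.card F = 4)
    {A : Subalgebra F (Matrix (Fin 6) (Fin 6) F)} (hA : IsFieldSubalgebra 3 A)
    (hAa : IsAdjointClosedFor (Cfsg.hermForm 6 F 2) A)
    (ρ : L →ₐ[F] Matrix (Fin 6) (Fin 6) F) (hρ : ∀ M, M ∈ A ↔ ∃ l, ρ l = M)
    (hinj : Function.Injective ρ) (hrank : finrank F L = 3) :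
    ∃ K : Subgroup (GL (Fin 6) F), subalgebraNormalizer A ⊓ G6 < K ∧ K < G6 := by
  classical
  have hF' : Fintype.card F = 2 ^ 2 := hF
  obtain ⟨σ, hσ, hf⟩ := exists_unitary_hermForm (n := 6) hF'
  have h2 : (2 : F) = 0 := CfsgLib.Aschbacher.two_eq_zero_iff.2 (by rw [hF]; decide)
  haveI hchar : CharP F 2 := CharTwo.of_one_ne_zero_of_two_eq_zero one_ne_zero h2
  have hρm : ∀ l, ρ l ∈ A := fun l => (hρ _).2 ⟨l, rfl⟩
  -- the adjoint
  have hex : ∀ k : L, ∃ l, ∀ x y, h6 (ρ k *ᵥ x) y = h6 x (ρ l *ᵥ y) := fun k => by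
    obtain ⟨k', hk', h⟩ := hAa (ρ k) (hρm k)
    obtain ⟨l, rfl⟩ := (hρ _).1 hk'
    exact ⟨l, h⟩
  choose st hst using hex
  have huniq : ∀ a b : L, (∀ x y, h6 x (ρ a *ᵥ y) = h6 x (ρ b *ᵥ y)) → a = b := fun a b h =>
    hinj (mulVec_ext_of_form hf h)
  have hs := CfsgLib.Aschbacher.isSesq_of_unitary hf
  have hsalg : ∀ a : F, st (algebraMap F L a) = algebraMap F L (a ^ 2) := fun a =>
    huniq _ _ fun x y => by
      rw [← hst, AlgHom.commutes, AlgHom.commutes]
      simp only [Algebra.algebraMap_eq_smul_one, Matrix.smul_mulVec, Matrix.one_mulVec, hs.smul_left,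
        hs.smul_right, hσ]
      rw [← pow_mul, show (2 * 2 : ℕ) = Fintype.card F from hF.symm, FiniteField.pow_card]
  have hmul : ∀ a b, st (a * b) = st a * st b := fun a b => huniq _ _ fun x y => by
    rw [← hst, mul_comm (st a), map_mul, map_mul, ← Matrix.mulVec_mulVec, ← Matrix.mulVec_mulVec, hst,
      hst]
  have hadd : ∀ a b, st (a + b) = st a + st b := fun a b => huniq _ _ fun x y => by
    rw [← hst, map_add, map_add, Matrix.add_mulVec, Matrix.add_mulVec, hs.add_left, hs.add_right,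
      hst, hst]
  have hone : st 1 = 1 := huniq _ _ fun x y => by
    rw [← hst, map_one]; simp
  let s : L →+* L :=
    { toFun := st, map_one' := hone, map_mul' := hmul
      map_zero' := by
        have h := hadd 0 0
        rw [add_zero] at h
        exact left_eq_add.1 h
      map_add' := hadd }
  -- a cube root of unity
  obtain ⟨w, hw0, hw1⟩ : ∃ w : F, w ≠ 0 ∧ w ≠ 1 := by
    by_contra hc
    push Not at hc
    have : Finset.univ ⊆ ({0, 1} : Finset F) := fun x _ => by
      by_cases hx : x = 0 <;> simp [hx, hc x]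
    have := (Finset.card_le_card this).trans Finset.card_le_two
    rw [Finset.card_univ] at this
    omega
  have hw : w * w + w + 1 = 0 := by
    refine (mul_eq_zero.1 (show (w - 1) * (w * w + w + 1) = 0 from ?_)).resolve_left (sub_ne_zero.2 hw1)
    linear_combination cube hF hw0
  have C : Cub ρ s w :=
    { card := hF, rank := hrank, adj := fun k x y => hst k x y
      invol := fun k => huniq _ _ fun x y => by
        show h6 x (ρ (st (st k)) *ᵥ y) = _
        rw [← hst, hf.herm, ← hst, ← hf.herm]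
      base := hsalg, omega := hw }
  haveI := C.fin
  haveI : Finite L := Module.finite_of_finite F
  obtain ⟨T, u, v, P⟩ := C.exists_pair
  obtain ⟨Φ, hΦ⟩ := P.bij C
  -- a fixed basis
  obtain ⟨B, hB⟩ : ∃ B : Basis (Fin 3) F L, ∀ j, s (B j) = B j := by
    obtain ⟨S, hSK, hSspan, hSli⟩ := exists_linearIndependent F {a : L | s a = a}
    have htop : ⊤ ≤ Submodule.span F S := by
      rw [hSspan]
      intro k _
      obtain ⟨b, hb⟩ : ∃ b, b = k + s k := ⟨_, rfl⟩
      obtain ⟨a, ha⟩ : ∃ a, a = k + algebraMap F L w * b := ⟨_, rfl⟩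
      have hbs : s b = b := by rw [hb, map_add, C.invol, add_comm]
      have has : s a = a := by
        rw [ha, map_add, map_mul, C.base, hbs, hb]
        have hw2 : algebraMap F L (w ^ 2) + algebraMap F L w = -1 := by
          rw [← map_add, show w ^ 2 + w = -1 by linear_combination hw, map_neg, map_one]
        linear_combination (k + s k) * hw2 - k * C.twoL - algebraMap F L w * (k + s k) * C.twoL
      have hk : k = a + w • b := by
        rw [Algebra.smul_def, ha]
        linear_combination -(algebraMap F L w * b) * C.twoL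
      rw [hk]
      exact Submodule.add_mem _ (Submodule.subset_span has)
        (Submodule.smul_mem _ _ (Submodule.subset_span hbs))
    let B₀ := Basis.mk hSli (by rw [Subtype.range_coe]; exact htop)
    let e := B₀.indexEquiv (Module.finBasisOfFinrankEq F L hrank)
    refine ⟨B₀.reindex e, fun j => ?_⟩
    rw [Basis.reindex_apply, Basis.mk_apply]
    exact hSK (e.symm j).2
  -- the rational structure
  let F₀ : Subfield F := (frobenius F 2).eqLocusField (RingHom.id F)
  have hF₀ : ∀ x, x ∈ F₀ ↔ x ^ 2 = x := fun x => Iff.rfl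
  have h01 : ∀ x : F, x ^ 2 = x → x = 0 ∨ x = 1 := fun x hx => by
    rcases mul_eq_zero.1 (show x * (x - 1) = 0 by linear_combination hx) with h | h
    · exact Or.inl h
    · exact Or.inr (sub_eq_zero.1 h)
  have hcard : Fintype.card F = Nat.card F₀ ^ 2 := by
    have hset : (F₀ : Set F) = {0, 1} := Set.ext fun x => by
      rw [SetLike.mem_coe, hF₀, Set.mem_insert_iff, Set.mem_singleton_iff]
      exact ⟨h01 x, fun h => by rcases h with rfl | rfl <;> simp⟩
    show _ = Nat.card (F₀ : Set F) ^ 2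
    rw [hset, Nat.card_coe_set_eq, Set.ncard_pair zero_ne_one, hF]; rfl
  let fe : Fin 2 × Fin 3 ≃ Fin 6 := finProdFinEquiv
  let ix : Fin 2 → Fin 3 → Fin 6 := fun a j => fe (a, j)
  let coef : (Fin 6 → F) → Fin 2 → L := fun z a => ∑ j, z (ix a j) • B j
  let Pm : M6 := Matrix.of fun i c =>
    (if (fe.symm c).1 = 0 then ρ (B (fe.symm c).2) *ᵥ u
      else ρ (B (fe.symm c).2) *ᵥ v) i
  have hPm : ∀ z, Pm *ᵥ z = comb ρ u v (coef z 0) (coef z 1) := fun z => by
    funext i
    show ∑ c, Pm i c * z c = _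
    rw [← Equiv.sum_comp fe, Fintype.sum_prod_type, Fin.sum_univ_two]
    simp only [Pm, Matrix.of_apply, Equiv.symm_apply_apply, if_true, 
      show ¬ ((1 : Fin 2) = 0) by decide, if_false, comb, coef, map_sum, map_smul, Matrix.sum_mulVec,
      Matrix.smul_mulVec, Pi.add_apply, Finset.sum_apply, Pi.smul_apply, smul_eq_mul, ix, mul_comm]
  have hcoefinj : ∀ z, coef z 0 = 0 → coef z 1 = 0 → z = 0 := fun z e0 e1 => funext fun c => by
    obtain ⟨⟨a, j⟩, rfl⟩ := fe.surjective c
    have hz : ∀ b, coef z b = 0 → z (fe (b, j)) = 0 := fun b hb =>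
      Fintype.linearIndependent_iff.1 B.linearIndependent _ hb j
    fin_cases a
    · exact hz 0 e0
    · exact hz 1 e1
  have hPdet : Pm.det ≠ 0 := fun h0 => by
    obtain ⟨z, hz0, hz⟩ := Matrix.exists_mulVec_eq_zero_iff.2 h0
    rw [hPm] at hz
    obtain ⟨e0, e1⟩ := P.inj C hz
    exact hz0 (hcoefinj z e0 e1)
  let PG : GL (Fin 6) F := Matrix.GeneralLinearGroup.mkOfDetNeZero Pm hPdet
  have hfix : ∀ z : Fin 6 → F, (∀ i, z i ∈ F₀) → ∀ a, s (coef z a) = coef z a := fun z hz a => by
    simp only [coef, map_sum]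
    refine Finset.sum_congr rfl fun j _ => ?_
    rw [Algebra.smul_def, map_mul, C.base, (hF₀ _).1 (hz _), hB]
  have hWrat : ∀ x, InW ρ s u v x ↔ ∃ z, (∀ i, z i ∈ F₀) ∧ Pm *ᵥ z = x := fun x => by
    constructor
    · rintro ⟨α, β, hα, hβ, rfl⟩
      have hrat : ∀ a : L, s a = a → ∀ j, B.repr a j ∈ F₀ := fun a ha j => by
        rw [hF₀]
        have e : ∑ i, (B.repr a i ^ 2) • B i = ∑ i, B.repr a i • B i := by
          rw [B.sum_repr]
          conv_rhs => rw [← ha, ← B.sum_repr a, map_sum]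
          refine Finset.sum_congr rfl fun i _ => ?_
          rw [Algebra.smul_def, Algebra.smul_def, map_mul, C.base, hB]
        have h := Fintype.linearIndependent_iff.1 B.linearIndependent
          (fun i => B.repr a i ^ 2 - B.repr a i) (by simp only [sub_smul, Finset.sum_sub_distrib, e, sub_self]) j
        exact sub_eq_zero.1 h
      let z : Fin 6 → F := fun c =>
        if (fe.symm c).1 = 0 then B.repr α (fe.symm c).2
        else B.repr β (fe.symm c).2
      refine ⟨z, fun i => ?_, ?_⟩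
      · simp only [z]; split_ifs
        exacts [hrat α hα _, hrat β hβ _]
      · rw [hPm]
        congr 1 <;> simp [coef, z, ix, B.sum_repr]
    · rintro ⟨z, hz, rfl⟩
      exact ⟨_, _, hfix z hz 0, hfix z hz 1, hPm z⟩
  -- values on rational vectors
  have hWform : ∀ x y, InW ρ s u v x → InW ρ s u v y →
      h6 x y ^ 2 = h6 x y ∧ h6 x x = 0 := by
    rintro _ _ ⟨a, b, ha, hb, rfl⟩ ⟨c, d, hc, hd, rfl⟩
    have e : ∀ a b c d : L, h6 (comb ρ u v a b) (comb ρ u v c d) = T (s d * a) + T (s c * b) :=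
      fun a b c d => by
        have := P.form C a b c d 1
        rwa [pair_apply, map_one, Matrix.one_mulVec, mul_one, mul_one] at this
    refine ⟨?_, by rw [e, ha, hb, mul_comm]; linear_combination (T (a * b)) * h2⟩
    rw [e, hc, hd]
    have h1 : T (d * a) ^ 2 = T (d * a) := by rw [← P.herm, s.map_mul, hd, ha]
    have h3 : T (c * b) ^ 2 = T (c * b) := by rw [← P.herm, s.map_mul, hc, hb]
    linear_combination h1 + h3 + (T (d * a) * T (c * b)) * h2
  let K : Subgroup (GL (Fin 6) F) := subfieldSubgroup F₀ PG ⊓ G6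
  -- membership by rationality
  have hmem : ∀ (g : GL (Fin 6) F) (z : F), z ≠ 0 →
      (∀ x, InW ρ s u v x → InW ρ s u v (z • ((g : M6) *ᵥ x))) → g ∈ subfieldSubgroup F₀ PG ∧
      ∃ M : Matrix (Fin 6) (Fin 6) F₀, z • ((g : M6) * Pm) = Pm * M.map F₀.subtype := by
    intro g z hz h
    choose col hcol hcole using fun i : Fin 6 => (hWrat _).1 (h _ ((hWrat _).2
      ⟨Pi.single i 1, fun k => by
        by_cases hk : k = i
        · subst hk; rw [Pi.single_eq_same]; exact F₀.one_mem
        · rw [Pi.single_eq_of_ne hk]; exact F₀.zero_mem, rfl⟩))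
    let M : Matrix (Fin 6) (Fin 6) F₀ := Matrix.of fun k i => ⟨col i k, hcol i k⟩
    have hM : z • ((g : M6) * Pm) = Pm * M.map F₀.subtype :=
      Matrix.ext_of_mulVec_single fun i => by
        rw [Matrix.smul_mulVec, ← Matrix.mulVec_mulVec, ← Matrix.mulVec_mulVec, ← hcole i]
        congr 1
        funext k
        simp [M]
    refine ⟨?_, M, hM⟩
    have hMdet : M.det ≠ 0 := fun h0 => by
      have h1 := congrArg Matrix.det hM
      rw [Matrix.det_smul, Matrix.det_mul, Matrix.det_mul, ← RingHom.mapMatrix_apply,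
        ← RingHom.map_det, h0, map_zero, mul_zero] at h1
      exact mul_ne_zero (pow_ne_zero _ hz) (mul_ne_zero g.det_ne_zero hPdet) h1
    let Mg : GL (Fin 6) F₀ := Matrix.GeneralLinearGroup.mkOfDetNeZero M hMdet
    refine ⟨Matrix.GeneralLinearGroup.map F₀.subtype Mg *
      Units.map (Matrix.scalar (Fin 6) : F →+* M6).toMonoidHom (Units.mk0 z hz)⁻¹, ?_, ?_⟩
    · exact Subgroup.mul_mem_sup ⟨Mg, rfl⟩ ⟨_, rfl⟩
    · show PG * _ * PG⁻¹ = g
      rw [mul_inv_eq_iff_eq_mul]
      refine Units.ext ?_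
      show Pm * (M.map F₀.subtype * Matrix.scalar (Fin 6) (z⁻¹ : F)) = (g : M6) * Pm
      rw [← mul_assoc, ← hM, Matrix.scalar_apply, ← Matrix.smul_one_eq_diagonal, Matrix.mul_smul,
        mul_one, smul_smul, inv_mul_cancel₀ hz, one_smul]
  -- the normaliser lies in it
  have hHK : subalgebraNormalizer A ⊓ G6 ≤ K := by
    rintro g ⟨hgN, hgG⟩
    refine ⟨?_, hgG⟩
    have hgi : ∀ x y, h6 ((g : M6) *ᵥ x) ((g : M6) *ᵥ y) = h6 x y := hgG.1
    choose θ hθ using fun k => (hρ _).1 ((hgN (ρ k)).1 (hρm k))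
    have hθx : ∀ k x, (g : M6) *ᵥ (ρ k *ᵥ x) = ρ (θ k) *ᵥ ((g : M6) *ᵥ x) := fun k x => by
      rw [hθ, Matrix.mulVec_mulVec, Matrix.mulVec_mulVec, mul_assoc _ _ (g : M6), Units.inv_mul,
        mul_one]
    have hθsur : Function.Surjective θ := Finite.surjective_of_injective fun a b e => hinj (by
      have h := congrArg ρ e
      rw [hθ, hθ] at h
      exact g.isUnit.mul_left_cancel ((g⁻¹).isUnit.mul_right_cancel h))
    have hginv : ∀ x, ∃ y, (g : M6) *ᵥ y = x := fun x =>
      ⟨((g⁻¹ : GL (Fin 6) F) : M6) *ᵥ x, by rw [Matrix.mulVec_mulVec, Units.mul_inv, Matrix.one_mulVec]⟩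
    have hθs : ∀ k, θ (s k) = s (θ k) := fun k => huniq _ _ fun x y => by
      obtain ⟨x, rfl⟩ := hginv x
      obtain ⟨y, rfl⟩ := hginv y
      rw [← hθx, hgi, show h6 x (ρ (s k) *ᵥ y) = h6 (ρ k *ᵥ x) y from (C.adj k x y).symm,
        ← C.adj (θ k), ← hθx, hgi]
    obtain ⟨c, hc, hcW⟩ := C.lattice P hgi hθx hθsur hθs
    -- the scalar lies in the ground field
    have hx0 : s c ≠ 0 := right_ne_zero_of_mul_eq_one hc
    have hdetx : (ρ (s c)).det = 1 := by
      obtain ⟨M, hM⟩ : ∃ M : Matrix (Fin 6) (Fin 6) F₀,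
          ρ (s c) * (g : M6) * Pm = Pm * M.map F₀.subtype := by
        choose col hcol hcole using fun i : Fin 6 => (hWrat _).1 (hcW _ ((hWrat _).2
          ⟨Pi.single i 1, fun k => by
            by_cases hk : k = i
            · subst hk; rw [Pi.single_eq_same]; exact F₀.one_mem
            · rw [Pi.single_eq_of_ne hk]; exact F₀.zero_mem, rfl⟩))
        refine ⟨Matrix.of fun k i => ⟨col i k, hcol i k⟩, Matrix.ext_of_mulVec_single fun i => ?_⟩
        rw [← Matrix.mulVec_mulVec, ← Matrix.mulVec_mulVec, ← Matrix.mulVec_mulVec, ← hcole i]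
        congr 1
        funext k
        simp
      have h := congrArg Matrix.det hM
      rw [Matrix.det_mul, Matrix.det_mul, Matrix.det_mul, ← RingHom.mapMatrix_apply, ← RingHom.map_det,
        show (g : M6).det = 1 by simpa using congrArg Units.val (MonoidHom.mem_ker.1 hgG.2), mul_one,
        mul_comm Pm.det] at h
      have h' := mul_right_cancel₀ hPdet h
      rcases h01 _ ((hF₀ _).1 M.det.2) with e | e
      · exfalso
        have hz : ρ (s c) * ρ (s c)⁻¹ = 1 := by rw [← map_mul, mul_inv_cancel₀ hx0, map_one]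
        have := congrArg Matrix.det hz
        rw [Matrix.det_mul, h', show F₀.subtype M.det = 0 from e, zero_mul, Matrix.det_one] at this
        exact zero_ne_one this
      · rw [h']; exact e
    obtain ⟨x, hx⟩ : ∃ x, x = s c := ⟨_, rfl⟩
    rw [← hx] at hcW hdetx hx0
    have hxx : x * s x = 1 := by rw [hx, C.invol, mul_comm]; exact hc
    have h21 : x ^ 21 = 1 := by
      have hdet : (ρ x).det = Algebra.norm F x * Algebra.norm F x := by
        rw [← LinearMap.det_toLin', Algebra.norm_apply, ← LinearMap.det_prodMap,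
          ← LinearMap.det_conj (LinearMap.prodMap _ _) Φ]
        congr 1
        refine LinearMap.ext fun y => ?_
        obtain ⟨⟨a, b⟩, rfl⟩ := Φ.surjective y
        simp [Matrix.toLin'_apply, hΦ, mul_comb, Algebra.coe_lmul_eq_mul, show Φ.symm (comb ρ u v a b) = (a, b) by rw [← hΦ, Φ.symm_apply_apply]]
      have hN : Algebra.norm F x = 1 := by
        have h := hdet.symm.trans hdetx
        have h' : (Algebra.norm F x - 1) * (Algebra.norm F x - 1) = 0 := by
          linear_combination h + (1 - Algebra.norm F x) * h2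
        exact sub_eq_zero.1 (mul_self_eq_zero.1 h')
      have h := FiniteField.algebraMap_norm_eq_pow (K := F) (x := x)
      rw [hN, map_one, Module.natCard_eq_pow_finrank (K := F) (V := L), hrank,
        Nat.card_eq_fintype_card, hF] at h
      exact h.symm
    have h9 : x ^ 9 = 1 := by
      let U : GL (Fin 6) F := Units.map ρ.toRingHom.toMonoidHom (Units.mk0 x hx0)
      have hU : U ^ (2 ^ 3 + 1) = 1 := (CfsgLib.Aschbacher.norm_one_torus hf (q := 2) (r := 3) hF' hA hAa).1 U
        (hρm x) fun a b => by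
          show h6 (ρ x *ᵥ a) (ρ x *ᵥ b) = _
          rw [C.adj, Matrix.mulVec_mulVec, ← map_mul, mul_comm, hxx, map_one, Matrix.one_mulVec]
      have := congrArg Units.val hU
      rw [Units.val_pow_eq_pow_val, Units.val_one] at this
      exact hinj (by rw [map_pow, map_one]; exact this)
    have h3 : x ^ 3 = 1 := by
      calc x ^ 3 = (x ^ 21) * x ^ 3 := by rw [h21, one_mul]
        _ = (x ^ 9) ^ 2 * x ^ 6 := by ring
        _ = x ^ 6 := by rw [h9, one_pow, one_mul]
        _ = x ^ 6 * x ^ 21 := by rw [h21, mul_one]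
        _ = (x ^ 9) ^ 3 := by ring
        _ = 1 := by rw [h9, one_pow]
    obtain ⟨z, hz⟩ : ∃ z : F, x = algebraMap F L z := by
      have hwL : algebraMap F L w * algebraMap F L w + algebraMap F L w + 1 = 0 := by
        rw [← map_mul, ← map_add, ← map_one (algebraMap F L), ← map_add, hw, map_zero]
      have : (x - 1) * ((x - algebraMap F L w) * (x - (algebraMap F L w + 1))) = 0 := by
        linear_combination h3 + (x - 1) * hwL +
          (1 - x - x * (x - 1) * (algebraMap F L w + 1)) * C.twoL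
      rcases mul_eq_zero.1 this with h | h
      · exact ⟨1, by rw [map_one]; exact sub_eq_zero.1 h⟩
      rcases mul_eq_zero.1 h with h | h
      · exact ⟨w, sub_eq_zero.1 h⟩
      · exact ⟨w + 1, by rw [map_add, map_one]; exact sub_eq_zero.1 h⟩
    have hz0 : z ≠ 0 := fun e => hx0 (by rw [hz, e, map_zero])
    refine (hmem g z hz0 fun y hy => ?_).1
    have := hcW y hy
    rwa [hz, AlgHom.commutes, Algebra.algebraMap_eq_smul_one, Matrix.smul_mulVec,
      Matrix.one_mulVec] at this
  -- a transvection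
  have huW : InW ρ s u v u := ⟨1, 0, map_one s, map_zero s, by simp [comb]⟩
  have hu0 : u ≠ 0 := fun e => P.ne (LinearMap.ext fun k => by
    rw [← P.uv, e, pair_apply, Matrix.mulVec_zero]
    simp [Cfsg.hermForm])
  obtain ⟨t, htG, ht⟩ := exists_T hF' (hWform u u huW huW).2
  have htK : t ∈ K := ⟨(hmem t 1 one_ne_zero fun y hy => by
    rw [one_smul, ht]
    rcases h01 _ (hWform y u hy huW).1 with e | e <;> rw [e]
    · rwa [zero_smul, add_zero]
    · rw [one_smul]
      obtain ⟨a, b, ha, hb, rfl⟩ := hy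
      obtain ⟨c, d, hc, hd, hu'⟩ := huW
      exact ⟨a + c, b + d, by rw [map_add, ha, hc], by rw [map_add, hb, hd], by
        rw [← comb_add, ← hu']⟩).1, htG⟩
  refine ⟨K, lt_of_le_of_ne hHK fun e => ?_, lt_of_le_of_ne inf_le_right fun e => ?_⟩
  · rw [← e] at htK
    obtain ⟨k, hk⟩ : ∃ k : L, ∀ a : F, k ≠ algebraMap F L a := by
      by_contra hc
      push Not at hc
      have h1 := finrank_le_one (R := F) (1 : L) fun k => by
        obtain ⟨a, ha⟩ := hc k
        exact ⟨a, by rw [ha, Algebra.smul_def, mul_one]⟩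
      omega
    obtain ⟨k', hk'⟩ := (hρ _).1 ((htK.1 (ρ k)).1 (hρm k))
    have hcomm : ∀ y, (t : M6) *ᵥ (ρ k *ᵥ y) = ρ k' *ᵥ ((t : M6) *ᵥ y) := fun y => by
      rw [hk', Matrix.mulVec_mulVec, Matrix.mulVec_mulVec, mul_assoc _ _ (t : M6), Units.inv_mul,
        mul_one]
    obtain ⟨y, hy0, hy1, hy2⟩ : ∃ y : Fin 6 → F, y ≠ 0 ∧ h6 y u = 0 ∧ h6 (ρ k *ᵥ y) u = 0 := by
      let φ : (Fin 6 → F) →ₗ[F] F × F :=
        { toFun := fun y => (h6 y u, h6 (ρ k *ᵥ y) u)
          map_add' := fun a b => by simp [Matrix.mulVec_add, C.add_left]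
          map_smul' := fun c a => by
            simp [Matrix.mulVec_smul, UnitaryTransvection.h_smul_left] }
      have hne : LinearMap.ker φ ≠ ⊥ := fun h => by
        have h1 := φ.finrank_range_add_finrank_ker
        have h3 := Submodule.finrank_le (LinearMap.range φ)
        rw [h, finrank_bot, Module.finrank_fin_fun] at h1
        rw [Module.finrank_prod, finrank_self] at h3
        omega
      obtain ⟨y, hy, hy0⟩ := Submodule.exists_mem_ne_zero_of_ne_bot hne
      exact ⟨y, hy0, congrArg Prod.fst hy, congrArg Prod.snd hy⟩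
    have hkk : k = k' := by
      have h := hcomm y
      rw [ht, ht, hy1, hy2] at h
      simp only [zero_smul, add_zero] at h
      by_contra hne
      apply hy0
      have h0 : ρ (k - k') *ᵥ y = 0 := by rw [map_sub, Matrix.sub_mulVec, h, sub_self]
      have h1 : y = ρ (k - k')⁻¹ *ᵥ (ρ (k - k') *ᵥ y) := by
        rw [Matrix.mulVec_mulVec, ← map_mul, inv_mul_cancel₀ (sub_ne_zero.2 hne), map_one,
          Matrix.one_mulVec]
      rwa [h0, Matrix.mulVec_zero] at h1
    obtain ⟨y', hy'⟩ : ∃ y', h6 y' u ≠ 0 := by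
      by_contra hc
      push Not at hc
      exact hu0 (UnitaryTransvection.h_nondeg (hF := hF') fun y => by
        rw [C.swap, hc y]; ring)
    have h := hcomm y'
    rw [← hkk, ht, ht, Matrix.mulVec_add, Matrix.mulVec_smul, add_left_cancel_iff] at h
    obtain ⟨q, hq⟩ : ∃ q, q = h6 (ρ k *ᵥ y') u / h6 y' u := ⟨_, rfl⟩
    have h0 : ρ (k - algebraMap F L q) *ᵥ u = 0 := by
      rw [map_sub, Matrix.sub_mulVec, AlgHom.commutes, Algebra.algebraMap_eq_smul_one,
        Matrix.smul_mulVec, Matrix.one_mulVec, hq, div_eq_inv_mul, mul_smul, h, inv_smul_smul₀ hy',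
        sub_self]
    have h1 : u = ρ (k - algebraMap F L q)⁻¹ *ᵥ (ρ (k - algebraMap F L q) *ᵥ u) := by
      rw [Matrix.mulVec_mulVec, ← map_mul, inv_mul_cancel₀ (sub_ne_zero.2 (hk q)), map_one,
        Matrix.one_mulVec]
    rw [h0, Matrix.mulVec_zero] at h1
    exact hu0 h1
  · exact CfsgLib.Aschbacher.not_SU_le_subfield hF' (by norm_num) Nat.prime_two hcard PG
      (show G6 ≤ _ from e.ge.trans inf_le_left)

/-- Cubic fields are not maximal in `SU_6(2)`. -/
theorem cubic_not_maximal (hF : Fintype.card F = 4)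
    {A : Subalgebra F (Matrix (Fin 6) (Fin 6) F)} (hA : IsFieldSubalgebra 3 A)
    (hAa : IsAdjointClosedFor (Cfsg.hermForm 6 F 2) A) :
    ∃ K : Subgroup (GL (Fin 6) F), subalgebraNormalizer A ⊓ G6 < K ∧ K < G6 := by
  letI : Field ↥A := (CfsgLib.Aschbacher.finite_isField hA).toField
  exact cubic_aux (L := ↥A) hF hA hAa A.val
    (fun M => ⟨fun h => ⟨⟨M, h⟩, rfl⟩, fun ⟨l, hl⟩ => hl ▸ l.2⟩) Subtype.val_injective hA.finrank_eq

end CfsgLib.MaxSub.SUSix
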